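import Mathlib

namespace Cfsg.Agent.Lib.lead.K4237a

section core
variable {P : Type*} [Group P] [Finite P] {p : ℕ}

theorem finite_hom {C : Type*} [Group C] [Finite C] : Finite (P →* C) :=
  Finite.of_injective (fun f : P →* C => (f : P → C)) DFunLike.coe_injective

theorem max_of_index_prime (hp : p.Prime) {H : Subgroup P} (hH : H.index = p) (K : Subgroup P)
    (hHK : H ≤ K) : K = H ∨ K = ⊤ := by
  have h1 := Subgroup.relIndex_mul_index hHK
  rw [hH] at h1
  have h2 : K.index ∣ p := Dvd.intro_left _ h1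
  rcases (Nat.dvd_prime hp).mp h2 with h3 | h3
  · right; exact Subgroup.index_eq_one.mp h3
  · left
    rw [h3] at h1
    have h4 : H.relIndex K = 1 := Nat.eq_of_mul_eq_mul_right hp.pos (by rw [h1, one_mul])
    exact le_antisymm (Subgroup.relIndex_eq_one.mp h4) hHK

theorem card_ne_succ {X : Type*} [Finite X] (a : X) : Nat.card {x : X // x ≠ a} + 1 = Nat.card X := by
  classical
  rw [← Finite.card_option, Nat.card_congr (Equiv.optionSubtypeNe a)]

theorem index_ker_of_ne_one (hp : p.Prime) {C : Type*} [Group C] [Finite C] (hC : Nat.card C = p)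
    (f : P →* C) (hf : f ≠ 1) : f.ker.index = p := by
  rw [Subgroup.index_ker]
  have h1 : Nat.card f.range ∣ p := by rw [← hC]; exact Subgroup.card_subgroup_dvd_card _
  rcases (Nat.dvd_prime hp).mp h1 with h2 | h2
  · exfalso
    apply hf
    have h3 : f.range = ⊥ := Subgroup.card_eq_one.mp h2
    exact (MonoidHom.range_eq_bot_iff).mp h3
  · exact h2

theorem ne_top_of_index (hp : p.Prime) {H : Subgroup P} (hH : H.index = p) : H ≠ ⊤ := by
  intro h
  rw [h, Subgroup.index_top] at hH
  exact hp.one_lt.ne hH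

theorem exists_notMem (hp : p.Prime) {H : Subgroup P} (hH : H.index = p) : ∃ x : P, x ∉ H := by
  by_contra hcon
  push_neg at hcon
  exact ne_top_of_index hp hH (eq_top_iff.mpr fun y _ => hcon y)

theorem card_fiber (hp : p.Prime) {n : ℕ} (hn : Nat.card P = p ^ (n + 1)) {C : Type*} [CommGroup C]
    [Finite C] (hC : Nat.card C = p) (H : Subgroup P) (hH : H.index = p) :
    Nat.card {f : P →* C // f.ker = H} + 1 = p := by
  classical
  haveI : Fact p.Prime := ⟨hp⟩
  have hnormal : H.Normal := by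
    apply Subgroup.normal_of_index_eq_minFac_card
    rw [hH, hn, Nat.pow_minFac (Nat.succ_ne_zero n), hp.minFac_eq]
  obtain ⟨x, hx⟩ := exists_notMem hp hH
  have hmax := max_of_index_prime hp hH
  have hCp : ∀ c : C, c ^ p = 1 := fun c => by rw [← hC]; exact pow_card_eq_one'
  have key : Nat.card {f : P →* C // f.ker = H} = Nat.card {c : C // c ≠ 1} := by
    refine Nat.card_eq_of_bijective
      (fun f => ⟨f.1 x, fun h => hx (by rw [← f.2]; exact MonoidHom.mem_ker.mpr h)⟩) ⟨?_, ?_⟩
    · rintro ⟨f, hf⟩ ⟨g, hg⟩ hfg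
      have hfg' : f x = g x := congrArg Subtype.val hfg
      have h1 : H ≤ f.eqLocus g := by
        intro h hh
        have h2 : f h = 1 := MonoidHom.mem_ker.mp (by rw [hf]; exact hh)
        have h3 : g h = 1 := MonoidHom.mem_ker.mp (by rw [hg]; exact hh)
        show f h = g h
        rw [h2, h3]
      have h4 : f.eqLocus g = ⊤ := by
        rcases hmax _ h1 with h5 | h5
        · exfalso; apply hx; rw [← h5]; exact hfg'
        · exact h5
      apply Subtype.ext
      ext y
      have h6 : y ∈ f.eqLocus g := by rw [h4]; exact Subgroup.mem_top y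
      exact h6
    · rintro ⟨c, hc⟩
      haveI := hnormal
      have hcard : Nat.card (P ⧸ H) = p := by rw [← Subgroup.index_eq_card, hH]
      have hxbar : (QuotientGroup.mk' H x) ≠ 1 := by
        intro h; exact hx ((QuotientGroup.eq_one_iff x).mp h)
      have hgen : ∀ y : P ⧸ H, y ∈ Subgroup.zpowers (QuotientGroup.mk' H x) := by
        intro y; rw [zpowers_eq_top_of_prime_card hcard hxbar]; exact Subgroup.mem_top y
      have hord : orderOf (QuotientGroup.mk' H x) = p :=
        orderOf_eq_prime (by rw [← hcard]; exact pow_card_eq_one') hxbar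
      have hdvd : orderOf c ∣ orderOf (QuotientGroup.mk' H x) := by
        rw [hord]; exact orderOf_dvd_of_pow_eq_one (hCp c)
      have hφ : (monoidHomOfForallMemZpowers hgen hdvd) (QuotientGroup.mk' H x) = c :=
        monoidHomOfForallMemZpowers_apply_gen hgen hdvd
      have hfx : ((monoidHomOfForallMemZpowers hgen hdvd).comp (QuotientGroup.mk' H)) x = c := hφ
      have hker : ((monoidHomOfForallMemZpowers hgen hdvd).comp (QuotientGroup.mk' H)).ker = H := by
        have h1 : H ≤ ((monoidHomOfForallMemZpowers hgen hdvd).comp (QuotientGroup.mk' H)).ker := by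
          intro h hh
          rw [MonoidHom.mem_ker]
          show (monoidHomOfForallMemZpowers hgen hdvd) (QuotientGroup.mk' H h) = 1
          have h2 : QuotientGroup.mk' H h = 1 := (QuotientGroup.eq_one_iff h).mpr hh
          rw [h2, map_one]
        rcases hmax _ h1 with h5 | h5
        · exact h5
        · exfalso
          have h6 : x ∈ ((monoidHomOfForallMemZpowers hgen hdvd).comp (QuotientGroup.mk' H)).ker := by
            rw [h5]; exact Subgroup.mem_top x
          exact hc (hfx ▸ MonoidHom.mem_ker.mp h6)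
      exact ⟨⟨_, hker⟩, Subtype.ext hfx⟩
  rw [key, card_ne_succ (1 : C), hC]

theorem card_hom (hp : p.Prime) {n : ℕ} (hn : Nat.card P = p ^ (n + 1)) {C : Type*} [CommGroup C]
    [Finite C] (hC : Nat.card C = p) :
    Nat.card (P →* C) = Nat.card {H : Subgroup P // H.index = p} * (p - 1) + 1 := by
  classical
  haveI : Finite (P →* C) := finite_hom
  letI : Fintype {H : Subgroup P // H.index = p} := Fintype.ofFinite _
  have hne : ∀ (H : {H : Subgroup P // H.index = p}) (f : {f : P →* C // f.ker = H.1}),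
      f.1 ≠ 1 := by
    rintro ⟨H, hH⟩ ⟨f, hf⟩ h1
    have hf' : f.ker = H := hf
    have h1' : f = 1 := h1
    apply ne_top_of_index hp hH
    rw [← hf', h1']
    exact MonoidHom.ker_one
  have e : {f : P →* C // f ≠ 1} ≃
      Σ H : {H : Subgroup P // H.index = p}, {f : P →* C // f.ker = H.1} :=
    { toFun := fun f => ⟨⟨f.1.ker, index_ker_of_ne_one hp hC f.1 f.2⟩, ⟨f.1, rfl⟩⟩
      invFun := fun y => ⟨y.2.1, hne y.1 y.2⟩
      left_inv := fun f => rfl
      right_inv := by
        rintro ⟨⟨H, hH⟩, ⟨f, hf⟩⟩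
        have hf' : f.ker = H := hf
        subst hf'
        rfl }
  have h1 : Nat.card {f : P →* C // f ≠ 1} = Nat.card {H : Subgroup P // H.index = p} * (p - 1) := by
    rw [Nat.card_congr e, Nat.card_sigma]
    have h2 : ∀ H : {H : Subgroup P // H.index = p},
        Nat.card {f : P →* C // f.ker = H.1} = p - 1 := by
      intro H
      have h3 := card_fiber hp hn hC H.1 H.2
      omega
    rw [Finset.sum_congr rfl (fun H _ => h2 H)]
    simp [Nat.card_eq_fintype_card]
  rw [← card_ne_succ (1 : P →* C), h1]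

theorem mu_pos (hp : p.Prime) {n : ℕ} (hn : Nat.card P = p ^ (n + 1)) :
    0 < Nat.card {H : Subgroup P // H.index = p} := by
  haveI : Fact p.Prime := ⟨hp⟩
  obtain ⟨K, hK⟩ := Sylow.exists_subgroup_card_pow_prime p
    (show p ^ n ∣ Nat.card P by rw [hn]; exact pow_dvd_pow p (Nat.le_succ n))
  have hidx : K.index = p := by
    have h := K.card_mul_index
    rw [hK, hn, pow_succ] at h
    exact Nat.eq_of_mul_eq_mul_left (pow_pos hp.pos n) h
  haveI : Nonempty {H : Subgroup P // H.index = p} := ⟨⟨K, hidx⟩⟩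
  exact Nat.card_pos

theorem card_hom_le_of_cyclic (hcyc : IsCyclic P) {C : Type*} [CommGroup C] [Finite C] :
    Nat.card (P →* C) ≤ Nat.card C := by
  obtain ⟨g, hg⟩ := IsCyclic.exists_generator (α := P)
  haveI : Finite (P →* C) := finite_hom
  apply Nat.card_le_card_of_injective (fun f : P →* C => f g)
  intro f f' h
  have h' : f g = f' g := h
  ext y
  obtain ⟨k, rfl⟩ := Subgroup.mem_zpowers_iff.mp (hg y)
  rw [map_zpow, map_zpow, h']

theorem cardC (_hp : p.Prime) : Nat.card (Multiplicative (ZMod p)) = p :=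
  (Nat.card_congr Multiplicative.toAdd).trans (Nat.card_zmod p)

theorem mu_eq_one_of_le (hp : p.Prime) {n : ℕ} (hn : Nat.card P = p ^ (n + 1))
    (hle : Nat.card (P →* Multiplicative (ZMod p)) ≤ p) :
    Nat.card {H : Subgroup P // H.index = p} = 1 := by
  haveI : Finite (Multiplicative (ZMod p)) :=
    Nat.finite_of_card_ne_zero (by rw [cardC hp]; exact hp.ne_zero)
  have hA := card_hom hp hn (cardC hp) (P := P)
  have hμpos := mu_pos hp hn
  have hp2 := hp.two_le
  rw [hA] at hle
  have h1 : Nat.card {H : Subgroup P // H.index = p} * (p - 1) ≤ 1 * (p - 1) := by omega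
  have h2 : Nat.card {H : Subgroup P // H.index = p} ≤ 1 := Nat.le_of_mul_le_mul_right h1 (by omega)
  omega

theorem mu_cyclic (hp : p.Prime) {n : ℕ} (hn : Nat.card P = p ^ (n + 1)) (hcyc : IsCyclic P) :
    Nat.card {H : Subgroup P // H.index = p} = 1 := by
  haveI : Finite (Multiplicative (ZMod p)) :=
    Nat.finite_of_card_ne_zero (by rw [cardC hp]; exact hp.ne_zero)
  apply mu_eq_one_of_le hp hn
  have h := card_hom_le_of_cyclic hcyc (C := Multiplicative (ZMod p))
  rwa [cardC hp] at h

theorem mu_noncyclic (hp : p.Prime) {n : ℕ} (hn : Nat.card P = p ^ (n + 1)) (hcyc : ¬ IsCyclic P) :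
    (Nat.card {H : Subgroup P // H.index = p} : ZMod (p ^ 2)) = 1 + (p : ZMod (p ^ 2)) := by
  classical
  haveI : Fact p.Prime := ⟨hp⟩
  haveI : Finite (Multiplicative (ZMod p)) :=
    Nat.finite_of_card_ne_zero (by rw [cardC hp]; exact hp.ne_zero)
  haveI : Finite (P →* Multiplicative (ZMod p)) := finite_hom
  have hA := card_hom hp hn (cardC hp) (P := P)
  have hAp : IsPGroup p (P →* Multiplicative (ZMod p)) := by
    intro f
    refine ⟨1, ?_⟩
    rw [pow_one]
    ext x
    rw [MonoidHom.pow_apply, MonoidHom.one_apply]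
    have h := pow_card_eq_one' (x := f x)
    rwa [cardC hp] at h
  obtain ⟨d, hd⟩ := (IsPGroup.iff_card).mp hAp
  have hd2 : 2 ≤ d := by
    by_contra hlt
    push_neg at hlt
    have hle : Nat.card (P →* Multiplicative (ZMod p)) ≤ p := by
      rw [hd]
      calc p ^ d ≤ p ^ 1 := Nat.pow_le_pow_right hp.pos (by omega)
        _ = p := pow_one p
    have hμ1 := mu_eq_one_of_le hp hn hle
    obtain ⟨hsub, hne⟩ := Nat.card_eq_one_iff_unique.mp hμ1
    obtain ⟨⟨H0, hH0⟩⟩ := hne
    obtain ⟨x, hx⟩ := exists_notMem hp hH0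
    apply hcyc
    rw [isCyclic_iff_exists_zpowers_eq_top]
    refine ⟨x, ?_⟩
    by_contra hK
    have hdvd : Nat.card (Subgroup.zpowers x) ∣ p ^ (n + 1) := by
      rw [← hn]; exact Subgroup.card_subgroup_dvd_card _
    obtain ⟨j, hj, hjc⟩ := (Nat.dvd_prime_pow hp).mp hdvd
    have hjn : j ≤ n := by
      by_contra hjn
      have hj1 : j = n + 1 := by omega
      apply hK
      apply Subgroup.eq_top_of_card_eq
      rw [hjc, hj1, hn]
    obtain ⟨K', hK'c, hK'le⟩ := Sylow.exists_subgroup_card_pow_prime_le p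
      (show p ^ n ∣ Nat.card P by rw [hn]; exact pow_dvd_pow p (Nat.le_succ n))
      (Subgroup.zpowers x) hjc hjn
    have hidx : K'.index = p := by
      have h := K'.card_mul_index
      rw [hK'c, hn, pow_succ] at h
      exact Nat.eq_of_mul_eq_mul_left (pow_pos hp.pos n) h
    have hEq : (⟨K', hidx⟩ : {H : Subgroup P // H.index = p}) = ⟨H0, hH0⟩ := Subsingleton.elim _ _
    have hK'H0 : K' = H0 := congrArg Subtype.val hEq
    exact hx (hK'H0 ▸ hK'le (Subgroup.mem_zpowers x))
  have hdiv : (p ^ 2 : ℕ) ∣ Nat.card {H : Subgroup P // H.index = p} * (p - 1) + 1 := by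
    rw [← hA, hd]; exact pow_dvd_pow p hd2
  have h0 : ((Nat.card {H : Subgroup P // H.index = p} * (p - 1) + 1 : ℕ) : ZMod (p ^ 2)) = 0 :=
    (ZMod.natCast_eq_zero_iff _ _).mpr hdiv
  have hq : ((p : ℕ) : ZMod (p ^ 2)) ^ 2 = 0 := by
    rw [← Nat.cast_pow]; exact ZMod.natCast_self (p ^ 2)
  push_cast [Nat.cast_sub hp.one_le] at h0
  linear_combination (-((p : ZMod (p ^ 2)) + 1)) * h0 +
    (Nat.card {H : Subgroup P // H.index = p} : ZMod (p ^ 2)) * hq

end core

section transfer
variable {G : Type*} [Group G] [Finite G] {p : ℕ}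

theorem nu_eq_mu (hp : p.Prime) (k : ℕ) (Q : Subgroup G) (hQ : Nat.card Q = p ^ (k + 1)) :
    Nat.card {H : Subgroup G // H ≤ Q ∧ Nat.card H = p ^ k}
      = Nat.card {H' : Subgroup Q // H'.index = p} := by
  have hpk : 0 < p ^ k := pow_pos hp.pos k
  have h1 : ∀ H : Subgroup G, H ≤ Q → Nat.card H = p ^ k → (H.subgroupOf Q).index = p := by
    intro H hHQ hH
    have hc : Nat.card (H.subgroupOf Q) = p ^ k := by
      rw [← hH]; exact Nat.card_congr (Subgroup.subgroupOfEquivOfLe hHQ).toEquiv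
    have h := (H.subgroupOf Q).card_mul_index
    rw [hc, hQ, pow_succ] at h
    exact Nat.eq_of_mul_eq_mul_left hpk h
  have h2 : ∀ H' : Subgroup Q, H'.index = p → Nat.card (H'.map Q.subtype) = p ^ k := by
    intro H' hH'
    have hc : Nat.card (H'.map Q.subtype) = Nat.card H' :=
      Nat.card_congr (H'.equivMapOfInjective Q.subtype Q.subtype_injective).symm.toEquiv
    have h := H'.card_mul_index
    rw [hH', hQ, pow_succ] at h
    rw [hc]
    exact Nat.eq_of_mul_eq_mul_right hp.pos h
  exact Nat.card_congr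
    { toFun := fun H => ⟨H.1.subgroupOf Q, h1 H.1 H.2.1 H.2.2⟩
      invFun := fun H' => ⟨H'.1.map Q.subtype, Subgroup.map_subtype_le _, h2 H'.1 H'.2⟩
      left_inv := fun H => Subtype.ext (Subgroup.map_subgroupOf_eq_of_le H.2.1)
      right_inv := fun H' =>
        Subtype.ext (Subgroup.comap_map_eq_self_of_injective Q.subtype_injective H'.1) }

/-- Pairs `H ≤ Q` of subgroups of orders `p^k`, `p^(k+1)`, counted modulo `p^2`. -/
theorem card_pairs_modEq {G : Type*} [Group G] [Finite G] (p k : ℕ) (hp : p.Prime) :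
    Nat.card {x : Subgroup G × Subgroup G //
        x.1 ≤ x.2 ∧ Nat.card x.1 = p ^ k ∧ Nat.card x.2 = p ^ (k + 1)}
      ≡ Nat.card {Q : Subgroup G // Nat.card Q = p ^ (k + 1)}
        + p * Nat.card {Q : Subgroup G // Nat.card Q = p ^ (k + 1) ∧ ¬ IsCyclic Q} [MOD p ^ 2] := by
  classical
  rw [← ZMod.natCast_eq_natCast_iff]
  letI : Fintype {Q : Subgroup G // Nat.card Q = p ^ (k + 1)} := Fintype.ofFinite _
  have e : {x : Subgroup G × Subgroup G //
        x.1 ≤ x.2 ∧ Nat.card x.1 = p ^ k ∧ Nat.card x.2 = p ^ (k + 1)} ≃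
      Σ Q : {Q : Subgroup G // Nat.card Q = p ^ (k + 1)},
        {H : Subgroup G // H ≤ Q.1 ∧ Nat.card H = p ^ k} :=
    { toFun := fun x => ⟨⟨x.1.2, x.2.2.2⟩, ⟨x.1.1, x.2.1, x.2.2.1⟩⟩
      invFun := fun y => ⟨(y.2.1, y.1.1), y.2.2.1, y.2.2.2, y.1.2⟩
      left_inv := fun x => rfl
      right_inv := fun y => rfl }
  rw [Nat.card_congr e, Nat.card_sigma, Nat.cast_sum]
  have hterm : ∀ Q : {Q : Subgroup G // Nat.card Q = p ^ (k + 1)},
      (Nat.card {H : Subgroup G // H ≤ Q.1 ∧ Nat.card H = p ^ k} : ZMod (p ^ 2))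
        = 1 + (p : ZMod (p ^ 2)) * (if ¬ IsCyclic Q.1 then 1 else 0) := by
    intro Q
    rw [nu_eq_mu hp k Q.1 Q.2]
    by_cases hc : IsCyclic Q.1
    · rw [if_neg (not_not.mpr hc), mu_cyclic hp Q.2 hc]; simp
    · rw [if_pos hc, mu_noncyclic hp Q.2 hc]; simp
  rw [Finset.sum_congr rfl (fun Q _ => hterm Q), Finset.sum_add_distrib, ← Finset.mul_sum,
    Finset.sum_boole]
  rw [show Nat.card {Q : Subgroup G // Nat.card Q = p ^ (k + 1) ∧ ¬ IsCyclic Q}
      = Nat.card {Q : {Q : Subgroup G // Nat.card Q = p ^ (k + 1)} // ¬ IsCyclic Q.1} from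
    Nat.card_congr (Equiv.subtypeSubtypeEquivSubtypeInter _ _).symm]
  simp [Nat.card_eq_fintype_card, Fintype.card_subtype]

end transfer

end Cfsg.Agent.Lib.lead.K4237a
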